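import Mathlib
import Groth.Agent.EtaleLib.Reduced

/-! Over a perfect field the tensor product of reduced algebras is reduced. -/

set_option autoImplicit false
universe u v w

open TensorProduct

noncomputable section

namespace Groth.Agent.RedTensor

/-- The points over an algebraically closed field separate a reduced algebra of finite type. -/
theorem exists_algHom_ne_zero {k : Type u} [Field k] [IsAlgClosed k] {A : Type v} [CommRing A] [Algebra k A]
    [Algebra.FiniteType k A] [IsReduced A] {a : A} (ha : a ≠ 0) : ∃ g : A →ₐ[k] k, g a ≠ 0 := by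
  haveI : IsJacobsonRing A := isJacobsonRing_of_finiteType (A := k)
  have h : (⊥ : Ideal A).jacobson = ⊥ := by
    exact IsJacobsonRing.out inferInstance Ideal.isRadical_bot
  have ha' : a ∉ (⊥ : Ideal A).jacobson := by rw [h]; simpa using ha
  rw [Ideal.jacobson, Submodule.mem_sInf] at ha'
  push Not at ha'
  obtain ⟨m, ⟨-, hm⟩, ham⟩ := ha'
  letI := Ideal.Quotient.field m
  haveI : Algebra.FiniteType k (A ⧸ m) :=
    Algebra.FiniteType.of_surjective (Ideal.Quotient.mkₐ k m) (Ideal.Quotient.mkₐ_surjective _ _)
  haveI := finite_of_finite_type_of_isJacobsonRing k (A ⧸ m)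
  haveI : Algebra.IsIntegral k (A ⧸ m) := Algebra.IsIntegral.of_finite _ _
  let e := AlgEquiv.ofBijective (Algebra.ofId k (A ⧸ m)) IsAlgClosed.algebraMap_bijective_of_isIntegral
  refine ⟨e.symm.toAlgHom.comp (Ideal.Quotient.mkₐ k m), fun h0 => ham ?_⟩
  refine Ideal.Quotient.eq_zero_iff_mem.mp ?_
  apply e.symm.injective
  rw [map_zero]
  exact h0

theorem isReduced_tensor_algClosed {k : Type u} [Field k] [IsAlgClosed k] {A : Type v} [CommRing A] [Algebra k A]
    {B : Type w} [CommRing B] [Algebra k B] [IsReduced A] [IsReduced B] : IsReduced (B ⊗[k] A) := by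
  classical
  refine IsReduced.tensorProduct_of_flat_of_forall_fg fun A₀ hA₀ => ?_
  haveI : Algebra.FiniteType k A₀ := (Subalgebra.fg_iff_finiteType A₀).1 hA₀
  haveI : IsReduced A₀ := isReduced_of_injective A₀.val Subtype.val_injective
  refine ⟨fun z hz => ?_⟩
  let b := Module.Free.chooseBasis k B
  refine (TensorProduct.equivFinsuppOfBasisLeft b).injective (Finsupp.ext fun i => ?_)
  rw [map_zero, Finsupp.zero_apply]
  by_contra hne
  obtain ⟨g, hg⟩ := exists_algHom_ne_zero (k := k) hne
  refine hg ?_
  have h0 : (Algebra.TensorProduct.rid k k B) (Algebra.TensorProduct.map (AlgHom.id k B) g z) = 0 :=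
    ((hz.map _).map _).eq_zero
  have key : ∀ y : B ⊗[k] A₀, b.repr ((Algebra.TensorProduct.rid k k B) (Algebra.TensorProduct.map (AlgHom.id k B) g y)) i =
      g (TensorProduct.equivFinsuppOfBasisLeft b y i) := by
    intro y
    induction y with
    | zero => simp
    | add p q hp hq => simp only [map_add, Finsupp.add_apply, hp, hq]
    | tmul p q => simp [mul_comm]
  rw [← key, h0, map_zero, Finsupp.zero_apply]

theorem isReduced_algClosure_tensor (k : Type u) [Field k] [PerfectField k] (A : Type u) [CommRing A] [Algebra k A]
    [IsReduced A] : IsReduced (AlgebraicClosure k ⊗[k] A) := by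
  haveI : IsReduced (A ⊗[k] AlgebraicClosure k) := by
    refine IsReduced.tensorProduct_of_flat_of_forall_fg fun B hB => ?_
    haveI hfin : Module.Finite k B := by
      haveI : Algebra.IsIntegral k B := Algebra.IsIntegral.of_injective B.val Subtype.val_injective
      haveI : Algebra.FiniteType k B := (Subalgebra.fg_iff_finiteType B).1 hB
      exact Algebra.IsIntegral.finite
    letI := (Subalgebra.isField_of_algebraic B).toField
    haveI : Algebra.FormallyEtale k B := (Algebra.FormallyEtale.iff_isSeparable k B).mpr inferInstance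
    haveI : Algebra.FinitePresentation k B := Algebra.FinitePresentation.of_finiteType.mp inferInstance
    haveI : Algebra.Etale k B := ⟨inferInstance, inferInstance⟩
    exact EtaleLib.isReduced_of_etale (A := A) (A ⊗[k] B)
  exact isReduced_of_injective (Algebra.TensorProduct.comm k (AlgebraicClosure k) A)
    (Algebra.TensorProduct.comm k (AlgebraicClosure k) A).injective

/-- Over a perfect field the tensor product of reduced algebras is reduced. -/
theorem isReduced_tensor (k : Type u) [Field k] [PerfectField k] (A B : Type u) [CommRing A] [Algebra k A]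
    [CommRing B] [Algebra k B] [IsReduced A] [IsReduced B] : IsReduced (A ⊗[k] B) := by
  let K := AlgebraicClosure k
  haveI := isReduced_algClosure_tensor k A
  haveI := isReduced_algClosure_tensor k B
  haveI : IsReduced ((K ⊗[k] A) ⊗[K] (K ⊗[k] B)) := isReduced_tensor_algClosed
  haveI : IsReduced ((K ⊗[k] A) ⊗[k] B) :=
    isReduced_of_injective (Algebra.TensorProduct.cancelBaseChange k K K (K ⊗[k] A) B).symm
      (Algebra.TensorProduct.cancelBaseChange k K K (K ⊗[k] A) B).symm.injective
  haveI : IsReduced (K ⊗[k] (A ⊗[k] B)) :=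
    isReduced_of_injective (Algebra.TensorProduct.assoc k k K K A B).symm
      (Algebra.TensorProduct.assoc k k K K A B).symm.injective
  exact isReduced_of_injective (Algebra.TensorProduct.includeRight : A ⊗[k] B →ₐ[k] K ⊗[k] (A ⊗[k] B))
    (Algebra.TensorProduct.includeRight_injective (RingHom.injective _))

end Groth.Agent.RedTensor
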